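import Groth.Agent.CohCmpLib.EulerFibre
import Groth.Agent.RichLib.ModFlatGlobal
import Groth.Agent.StratLib.Fibre

/-!
# Euler characteristics of fibres under extension of the field
-/

set_option autoImplicit false
set_option linter.style.haveILetI false
universe u

open CategoryTheory CategoryTheory.Limits AlgebraicGeometry TopologicalSpace Opposite

noncomputable section

namespace HilbSCLib

theorem isFlatOver_spec_field {k : Type u} [Field k] {X : Scheme.{u}} (f : X ⟶ Spec (CommRingCat.of k))
    (M : X.Modules) : FlatMod.IsFlatOver f M := fun x => by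
  letI := FlatMod.moduleStalkOver f M x
  haveI : IsReduced (Spec (CommRingCat.of k)) := inferInstance
  have hfld : IsField ((Spec (CommRingCat.of k)).presheaf.stalk (f x)) := by
    haveI : Subsingleton ↥(Spec (CommRingCat.of k)) := inferInstanceAs (Subsingleton (PrimeSpectrum k))
    haveI : IrreducibleSpace ↥(Spec (CommRingCat.of k)) := inferInstance
    have hx : f x = genericPoint ↥(Spec (CommRingCat.of k)) := Subsingleton.elim _ _
    rw [hx]
    exact isField_stalk_of_closure_mem_irreducibleComponents _ _
      (by rw [genericPoint_closure]; simp [irreducibleComponents_eq_singleton])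
  letI : Field ((Spec (CommRingCat.of k)).presheaf.stalk (f x)) := hfld.toField
  exact (inferInstance : Module.Flat ((Spec (CommRingCat.of k)).presheaf.stalk (f x)) (M.presheaf.stalk x))

variable {X S : Scheme.{u}} (f : X ⟶ S) [IsProper f] [LocallyOfFinitePresentation f]

/-- The Euler characteristic of the fibre may be computed after any extension of the residue field. -/
theorem euler_fibre_bc {M : X.Modules} (hM : CohB1.IsFP M) {K : Type u} [Field K] {Z : Scheme.{u}} {g' : Z ⟶ X}
    {f' : Z ⟶ Spec (CommRingCat.of K)} {v : Spec (CommRingCat.of K) ⟶ S} (H : IsPullback g' f' f v)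
    {s : S} (hs : v (IsLocalRing.closedPoint K) = s) :
    @Curv2.euler K _ Z ⟨f'⟩ ((Scheme.Modules.pullback g').obj M) =
      @Curv2.euler (S.residueField s) _ (f.fiber s) ⟨f.fiberToSpecResidueField s⟩
        ((Scheme.Modules.pullback (f.fiberι s)).obj M) := by
  subst hs
  let s := v (IsLocalRing.closedPoint K)
  let φ : S.residueField s ⟶ CommRingCat.of K := Scheme.descResidueField (Scheme.stalkClosedPointTo v)
  let w : Spec (CommRingCat.of K) ⟶ Spec (S.residueField s) := Spec.map φ
  have hw : w ≫ S.fromSpecResidueField s = v := Scheme.descResidueField_stalkClosedPointTo_fromSpecResidueField K S v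
  let fs := f.fiberToSpecResidueField s
  have Hs : IsPullback (f.fiberι s) fs f (S.fromSpecResidueField s) := IsPullback.of_hasPullback _ _
  let q : Z ⟶ f.fiber s := Hs.lift g' (f' ≫ w) (by rw [Category.assoc, hw]; exact H.w)
  have Hq : IsPullback q f' fs w :=
    IsPullback.of_right (by rw [Hs.lift_fst, hw]; exact H) (Hs.lift_snd _ _ _) Hs
  let Ms := (Scheme.Modules.pullback (f.fiberι s)).obj M
  have hMs : CohB1.IsFP Ms := RichLib.ModFlat.isFP_pullback _ hM
  have hfl : FlatMod.IsFlatOver fs Ms := isFlatOver_spec_field fs Ms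
  haveI : IsProper fs := MorphismProperty.of_isPullback Hs inferInstance
  haveI : LocallyOfFinitePresentation fs := MorphismProperty.of_isPullback Hs inferInstance
  letI : (f.fiber s).Over (Spec (CommRingCat.of (S.residueField s))) := ⟨fs⟩
  letI : Z.Over (Spec (CommRingCat.of K)) := ⟨f'⟩
  have e : (Scheme.Modules.pullback g').obj M ≅ (Scheme.Modules.pullback q).obj Ms :=
    (Scheme.Modules.pullbackCongr (Hs.lift_fst _ _ _).symm).app _ ≪≫
      ((Scheme.Modules.pullbackComp q (f.fiberι s)).app _).symm
  refine (CurvLib.euler_congr e).trans ?_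
  refine (CohCmpLib.euler_bc hMs hfl Hq (IsLocalRing.closedPoint K)).trans ?_
  refine Eq.trans ?_ (CurvLib.euler_congr ((Scheme.Modules.pullbackId _).app Ms))
  refine Eq.trans ?_ (CohCmpLib.euler_bc hMs hfl (IsPullback.of_horiz_isIso (fst := 𝟙 (f.fiber s)) (snd := fs)
    (f := fs) (g := 𝟙 (Spec (S.residueField s))) ⟨by simp⟩) (IsLocalRing.closedPoint _)).symm
  congr 1
  exact Subsingleton.elim (α := PrimeSpectrum (S.residueField s)) _ _

/-- Betti numbers of a base change to a field. -/
theorem finrank_bc {X S : Scheme.{u}} {f : X ⟶ S} {F : X.Modules} [IsProper f] [LocallyOfFinitePresentation f]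
    (hfp : CohB1.IsFP F) (hfl : FlatMod.IsFlatOver f F) {K : Type u} [Field K] {Z : Scheme.{u}} {g' : Z ⟶ X}
    {f' : Z ⟶ Spec (CommRingCat.of K)} {v : Spec (CommRingCat.of K) ⟶ S} (H : IsPullback g' f' f v)
    (z : Spec (CommRingCat.of K)) (p : ℕ) :
    letI : Z.Over (Spec (CommRingCat.of K)) := ⟨f'⟩
    Module.finrank K (Coh.HH Z ((Scheme.Modules.pullback g').obj F) p) = PerfAux.betti f F (v z) p := by
  have : Coh.IsQCoh F := have : SheafOfModules.IsFinitePresentation (R := X.ringCatSheaf) F := hfp; inferInstance
  obtain ⟨W, C, hW, hz⟩ := CohCmpLib.exists_chart_at hfp hfl (v z)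
  exact C.finrank_bc hW H (fun z' => by rwa [Subsingleton.elim (α := PrimeSpectrum K) z' z]) z p

/-- The dimensions of the cohomology of the fibre may be computed after any extension of the residue field. -/
theorem finrank_fibre_bc {M : X.Modules} (hM : CohB1.IsFP M) {K : Type u} [Field K] {Z : Scheme.{u}} {g' : Z ⟶ X}
    {f' : Z ⟶ Spec (CommRingCat.of K)} {v : Spec (CommRingCat.of K) ⟶ S} (H : IsPullback g' f' f v)
    {s : S} (hs : v (IsLocalRing.closedPoint K) = s) (p : ℕ) :
    letI : Z.Over (Spec (CommRingCat.of K)) := ⟨f'⟩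
    letI : (f.fiber s).Over (Spec (CommRingCat.of (S.residueField s))) := ⟨f.fiberToSpecResidueField s⟩
    Module.finrank K (Coh.HH Z ((Scheme.Modules.pullback g').obj M) p) =
      Module.finrank (S.residueField s) (Coh.HH (f.fiber s) ((Scheme.Modules.pullback (f.fiberι s)).obj M) p) := by
  subst hs
  let s := v (IsLocalRing.closedPoint K)
  let φ : S.residueField s ⟶ CommRingCat.of K := Scheme.descResidueField (Scheme.stalkClosedPointTo v)
  let w : Spec (CommRingCat.of K) ⟶ Spec (S.residueField s) := Spec.map φ
  have hw : w ≫ S.fromSpecResidueField s = v := Scheme.descResidueField_stalkClosedPointTo_fromSpecResidueField K S v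
  let fs := f.fiberToSpecResidueField s
  have Hs : IsPullback (f.fiberι s) fs f (S.fromSpecResidueField s) := IsPullback.of_hasPullback _ _
  let q : Z ⟶ f.fiber s := Hs.lift g' (f' ≫ w) (by rw [Category.assoc, hw]; exact H.w)
  have Hq : IsPullback q f' fs w :=
    IsPullback.of_right (by rw [Hs.lift_fst, hw]; exact H) (Hs.lift_snd _ _ _) Hs
  let Ms := (Scheme.Modules.pullback (f.fiberι s)).obj M
  have hMs : CohB1.IsFP Ms := RichLib.ModFlat.isFP_pullback _ hM
  have hfl : FlatMod.IsFlatOver fs Ms := isFlatOver_spec_field fs Ms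
  haveI : IsProper fs := MorphismProperty.of_isPullback Hs inferInstance
  haveI : LocallyOfFinitePresentation fs := MorphismProperty.of_isPullback Hs inferInstance
  letI : (f.fiber s).Over (Spec (CommRingCat.of (S.residueField s))) := ⟨fs⟩
  letI : Z.Over (Spec (CommRingCat.of K)) := ⟨f'⟩
  have e : (Scheme.Modules.pullback g').obj M ≅ (Scheme.Modules.pullback q).obj Ms :=
    (Scheme.Modules.pullbackCongr (Hs.lift_fst _ _ _).symm).app _ ≪≫
      ((Scheme.Modules.pullbackComp q (f.fiberι s)).app _).symm
  refine ((StratLib.nonempty_HH_congr (K := K) f' e p).some.finrank_eq).trans ?_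
  refine (finrank_bc hMs hfl Hq (IsLocalRing.closedPoint K) p).trans ?_
  refine Eq.trans ?_ ((StratLib.nonempty_HH_congr (K := S.residueField s) fs ((Scheme.Modules.pullbackId _).app Ms) p).some.finrank_eq)
  refine Eq.trans ?_ (finrank_bc hMs hfl (IsPullback.of_horiz_isIso (fst := 𝟙 (f.fiber s)) (snd := fs)
    (f := fs) (g := 𝟙 (Spec (S.residueField s))) ⟨by simp⟩) (IsLocalRing.closedPoint _) p).symm
  congr 1
  exact Subsingleton.elim (α := PrimeSpectrum (S.residueField s)) _ _

end HilbSCLib

end
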