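import Groth.Agent.CohCmpLib.Descent
import Groth.Agent.QuotSchLib.Core

/-!
# Modules of finite presentation on projective space descend to a Noetherian base
-/

set_option autoImplicit false
set_option linter.style.haveILetI false
universe u

open CategoryTheory CategoryTheory.Limits AlgebraicGeometry TopologicalSpace RichLib.LimBC ConsLib

noncomputable section

namespace HilbSCLib

attribute [local instance] ConsLib.zAlgebra

theorem exists_descent_projSpace {A : Type u} [CommRing A] (n : ℕ)
    (F : (CohB1.ProjSpaceOver n (Spec (CommRingCat.of A))).Modules) [Coh.IsQCoh F] (hF : CohB1.IsFP F) :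
    ∃ (S₀ : Scheme.{u}) (_ : IsNoetherian S₀) (_ : IsAffine S₀) (φ : Spec (CommRingCat.of A) ⟶ S₀)
      (G : (CohB1.ProjSpaceOver n S₀).Modules), Coh.IsCoh G ∧
        Nonempty ((Scheme.Modules.pullback (FGA.projMap n φ)).obj G ≅ F) := by
  let A' := zSys A
  haveI : ∀ i j (a : i ⟶ j), IsAffineHom (A'.D.map a) := fun _ _ a => A'.affine_map a
  haveI : ∀ i, IsNoetherian (A'.D.obj i) := fun i => zSys_obj _ i
  obtain ⟨i⟩ : Nonempty (FGSub (ULift.{u} ℤ) A)ᵒᵖ := IsCofiltered.nonempty
  let π : ∀ j, Spec (CommRingCat.of A) ⟶ A'.D.obj j := fun j => A'.c.π.app j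
  let Z := ofStage A'.D A'.c A'.hc i
  let p := CohB1.ProjSpaceOver.toBase n (A'.D.obj i)
  haveI : IsProper p := ChowLib.isProper_toBase n _
  let B := pb Z p
  haveI : ∀ k l (b : k ⟶ l), IsAffineHom (B.D.map b) := fun _ _ b => B.affine_map b
  haveI : ∀ φ : Over i, IsNoetherian (B.D.obj φ) := fun φ =>
    @ConsLib.isNoetherian_of_ft _ _ (pullback.snd p (A'.D.map φ.hom)) (zSys_obj _ φ.left)
      (MorphismProperty.pullback_snd _ _ inferInstance) (MorphismProperty.pullback_snd _ _ inferInstance)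
  haveI : ∀ k : Over i, CompactSpace (B.D.obj k) := fun _ => inferInstance
  haveI : ∀ k : Over i, QuasiSeparatedSpace (B.D.obj k) := fun _ => inferInstance
  let eY := (QuotSchLib.isPullback_projMap (n := n) (π i)).isoPullback
  let c' : Cone B.D := B.c.extend eY.hom
  have hc' : IsLimit c' := B.hc.ofIsoLimit (Cone.ext eY.symm (fun φ => by
    simp [c', Cone.extend]))
  obtain ⟨φ, G, hG, ⟨eG⟩⟩ := ModDescLib.exists_coh_pullback (c := c') hc' F
    fun y => FlatLib.exists_presentation_nhd hF y
  let sq := QuotSchLib.isPullback_projMap (n := n) (A'.D.map φ.hom)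
  let e' := sq.isoPullback
  refine ⟨A'.D.obj φ.left, inferInstance, inferInstanceAs (IsAffine (Spec (CommRingCat.of φ.left.unop.1))), π φ.left, (Scheme.Modules.pullback e'.hom).obj G,
    ConsLib.isCoh_pullback _ hG, ⟨?_⟩⟩
  refine (Scheme.Modules.pullbackComp _ _).app G ≪≫ (Scheme.Modules.pullbackCongr ?_).app G ≪≫ eG
  show FGA.projMap n (π φ.left) ≫ e'.hom = eY.hom ≫ pbπ Z p φ
  refine pullback.hom_ext (f := p) (g := A'.D.map φ.hom) ?_ ?_
  · rw [Category.assoc, sq.isoPullback_hom_fst, QuotSchLib.projMap_comp]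
    refine Eq.trans ?_ (((Category.assoc _ _ _).trans (congrArg (eY.hom ≫ ·) (pbπ_fst Z p φ))).trans
      (QuotSchLib.isPullback_projMap (n := n) (π i)).isoPullback_hom_fst).symm
    exact congrArg (FGA.projMap n) (A'.c.w φ.hom)
  · rw [Category.assoc, sq.isoPullback_hom_snd, (QuotSchLib.isPullback_projMap (n := n) (π φ.left)).w]
    refine (((Category.assoc _ _ _).trans (congrArg (eY.hom ≫ ·) (pbπ_snd Z p φ))).trans
      ((Category.assoc _ _ _).symm.trans (congrArg (· ≫ Z.c.π.app φ)
        (QuotSchLib.isPullback_projMap (n := n) (π i)).isoPullback_hom_snd))).symm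

end HilbSCLib
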